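import Groth.Agent.Localalg.Kunz
import Groth.Agent.WildQuot.K873.Inv
import Groth.Agent.WildQuot.K873.ASAut
import Groth.Agent.CurvesC.RegNormal
import Mathlib.RingTheory.Flat.EquationalCriterion
import Mathlib.FieldTheory.Galois.IsGaloisGroup
import Mathlib.RingTheory.Henselian
import Mathlib.LinearAlgebra.LinearIndependent.Lemmas

/-!
# Extending automorphisms of a ring of invariants

`A` a complete regular local ring of characteristic `p` and dimension `≥ 2`, `G` a group of order `p` acting on `A`,
ramified precisely at the closed point.  Automorphisms of `A^G` extend to `A`: the covering `A` is described on the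
punctured spectrum by an Artin-Schreier equation, and Frobenius-fixed classes in `H¹` of `O` of the punctured
spectrum vanish because Frobenius is flat.
-/

set_option autoImplicit false
universe u v w

open IsLocalRing

namespace K100.ExtAut

section Flat

/-- Solutions of a linear system with coefficients in `R` in a flat `R`-algebra come from solutions in `R`. -/
theorem flat_system {R S : Type*} [CommRing R] [CommRing S] (φ : R →+* S) (hφ : φ.Flat) {ι κ : Type*}
    [Fintype ι] [Fintype κ] (c : κ → ι → R) (x : ι → S) (h : ∀ k, ∑ i, φ (c k i) * x i = 0) :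
    ∃ (n : ℕ) (a : Fin n → ι → R) (y : Fin n → S),
      (∀ i, x i = ∑ l, φ (a l i) * y l) ∧ ∀ l k, ∑ i, c k i * a l i = 0 := by
  classical
  let _ := φ.toAlgebra
  have hfl : Module.Flat R S := hφ
  let f : (κ → R) →ₗ[R] (ι → R) := Fintype.linearCombination R (fun k => (c k : ι → R))
  let X : (ι → R) →ₗ[R] S := Fintype.linearCombination R x
  have hf : ∀ k, f (Pi.single k 1) = c k := fun k => by
    simp only [f, Fintype.linearCombination_apply_single, one_smul]
  have hX : ∀ i, X (Pi.single i 1) = x i := fun i => by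
    simp only [X, Fintype.linearCombination_apply_single, one_smul]
  have h0 : X ∘ₗ f = 0 := by
    apply LinearMap.pi_ext'
    intro k
    ext
    simp only [LinearMap.coe_comp, LinearMap.coe_single, Function.comp_apply, LinearMap.zero_apply]
    rw [hf, Fintype.linearCombination_apply]
    exact h k
  obtain ⟨n, a, y, hy, ha⟩ := Module.Flat.exists_factorization_of_comp_eq_zero_of_free h0
  refine ⟨n, fun l i => a (Pi.single i 1) l, fun l => y (Finsupp.single l 1), fun i => ?_, fun l k => ?_⟩
  · rw [← hX i, hy, LinearMap.comp_apply]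
    conv_lhs => rw [← Finsupp.univ_sum_single (a (Pi.single i 1))]
    rw [map_sum]
    refine Finset.sum_congr rfl fun l _ => ?_
    rw [← mul_one ((a (Pi.single i 1)) l), ← smul_eq_mul, ← Finsupp.smul_single, map_smul]
    rfl
  · have h1 : a (f (Pi.single k 1)) = 0 := by
      have := LinearMap.congr_fun ha (Pi.single k 1)
      simpa using this
    rw [hf] at h1
    have h2 : (c k : ι → R) = ∑ i, c k i • Pi.single i (1 : R) := by
      ext i
      simp [Finset.sum_apply, Pi.single_apply]
    rw [h2, map_sum] at h1
    have h3 := DFunLike.congr_fun h1 l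
    rw [Finsupp.finsetSum_apply] at h3
    simp only [map_smul, Finsupp.smul_apply, smul_eq_mul, Finsupp.zero_apply] at h3
    exact h3

end Flat

section FrobFixed

variable {A : Type*} [CommRing A] [IsDomain A] {K : Type*} [Field K] [Algebra A K] [IsFractionRing A K]

/-- `x ∈ K` lies in `A[1/f]`. -/
def InAway (f : A) (x : K) : Prop := ∃ (M : ℕ) (b : A), algebraMap A K f ^ M * x = algebraMap A K b

omit [IsDomain A] [IsFractionRing A K] in
theorem InAway.add {f : A} {x y : K} (hx : InAway f x) (hy : InAway f y) : InAway f (x + y) := by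
  obtain ⟨M, b, hb⟩ := hx
  obtain ⟨N, c, hc⟩ := hy
  refine ⟨M + N, f ^ N * b + f ^ M * c, ?_⟩
  rw [map_add, map_mul, map_mul, map_pow, map_pow, ← hb, ← hc]
  ring

omit [IsDomain A] [IsFractionRing A K] in
theorem InAway.mul {f : A} {x y : K} (hx : InAway f x) (hy : InAway f y) : InAway f (x * y) := by
  obtain ⟨M, b, hb⟩ := hx
  obtain ⟨N, c, hc⟩ := hy
  refine ⟨M + N, b * c, ?_⟩
  rw [map_mul, ← hb, ← hc]
  ring

omit [IsDomain A] [IsFractionRing A K] in
theorem InAway.of (f a : A) : InAway f (algebraMap A K a) := ⟨0, a, by simp⟩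

omit [IsDomain A] [IsFractionRing A K] in
theorem InAway.neg {f : A} {x : K} (hx : InAway f x) : InAway f (-x) := by
  obtain ⟨M, b, hb⟩ := hx
  exact ⟨M, -b, by rw [map_neg, ← hb]; ring⟩

omit [IsDomain A] [IsFractionRing A K] in
theorem InAway.sub {f : A} {x y : K} (hx : InAway f x) (hy : InAway f y) : InAway f (x - y) := by
  rw [sub_eq_add_neg]; exact hx.add hy.neg

omit [IsDomain A] [IsFractionRing A K] in
theorem InAway.pow {f : A} {x : K} (hx : InAway f x) (n : ℕ) : InAway f (x ^ n) := by
  induction n with
  | zero => rw [pow_zero, ← map_one (algebraMap A K)]; exact InAway.of f 1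
  | succ n ih => rw [pow_succ]; exact ih.mul hx

omit [IsDomain A] [IsFractionRing A K] in
/-- uniform exponents -/
theorem InAway.exists_forall {J : Type*} [Finite J] {f : J → A} {x : J → K} (h : ∀ j, InAway (f j) (x j)) :
    ∃ N : ℕ, ∀ M, N ≤ M → ∀ j, ∃ b : A, algebraMap A K (f j) ^ M * x j = algebraMap A K b := by
  have := Fintype.ofFinite J
  choose N b hb using h
  refine ⟨∑ j, N j, fun M hM j => ?_⟩
  have h1 : N j ≤ M := (Finset.single_le_sum (f := N) (fun _ _ => Nat.zero_le _) (Finset.mem_univ j)).trans hM
  refine ⟨f j ^ (M - N j) * b j, ?_⟩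
  rw [map_mul, map_pow, ← hb j, ← mul_assoc, ← pow_add, Nat.sub_add_cancel h1]

omit [IsDomain A] [IsFractionRing A K] in
theorem InAway.mul_left {f : A} {x : K} (hx : InAway f x) (g : A) : InAway (f * g) x := by
  obtain ⟨M, b, hb⟩ := hx
  refine ⟨M, g ^ M * b, ?_⟩
  rw [map_mul, map_mul, mul_pow, map_pow, ← hb]
  ring

omit [IsDomain A] [IsFractionRing A K] in
theorem InAway.mul_right {f : A} {x : K} (hx : InAway f x) (g : A) : InAway (g * f) x := by
  rw [mul_comm]; exact hx.mul_left g

omit [IsDomain A] in
/-- `A[1/f]` is integrally closed (for Artin-Schreier equations). -/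
theorem InAway.of_pow_sub [IsIntegrallyClosed A] (p : ℕ) (hp : 2 ≤ p) {f : A} {t : K}
    (h : InAway f (t ^ p - t)) : InAway f t := by
  obtain ⟨M, b, hb⟩ := h
  refine ⟨M, ?_⟩
  have hint : IsIntegral A (algebraMap A K f ^ M * t) := by
    refine ⟨Polynomial.X ^ p - (Polynomial.C (f ^ (M * (p - 1))) * Polynomial.X +
      Polynomial.C (f ^ (M * (p - 1)) * b)), ?_, ?_⟩
    · apply Polynomial.monic_X_pow_sub
      refine lt_of_le_of_lt Polynomial.degree_linear_le ?_
      have : 1 < p := by omega
      exact_mod_cast this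
    · simp only [Polynomial.eval₂_sub, Polynomial.eval₂_pow, Polynomial.eval₂_X, Polynomial.eval₂_add,
        Polynomial.eval₂_mul, Polynomial.eval₂_C, map_pow, map_mul, ← hb]
      obtain ⟨q, rfl⟩ : ∃ q, p = q + 1 := ⟨p - 1, by omega⟩
      rw [Nat.add_sub_cancel]
      ring
  obtain ⟨a, ha⟩ := IsIntegrallyClosed.isIntegral_iff.mp hint
  exact ⟨a, ha.symm⟩

/-- The annihilator of the class of `(z_j)`. -/
def annI {J : Type*} (f : J → A) (z : J → K) : Ideal A where
  carrier := {r | ∃ w : K, ∀ j, InAway (f j) (algebraMap A K r * z j - w)}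
  zero_mem' := ⟨0, fun j => by
    rw [map_zero, zero_mul, sub_zero, ← map_zero (algebraMap A K)]; exact InAway.of _ 0⟩
  add_mem' := by
    rintro r s ⟨w, hw⟩ ⟨w', hw'⟩
    refine ⟨w + w', fun j => ?_⟩
    have := (hw j).add (hw' j)
    rw [map_add]
    convert this using 1
    ring
  smul_mem' := by
    rintro c r ⟨w, hw⟩
    refine ⟨algebraMap A K c * w, fun j => ?_⟩
    have := (InAway.of (K := K) (f j) c).mul (hw j)
    rw [smul_eq_mul, map_mul]
    convert this using 1
    ring

omit [IsDomain A] [IsFractionRing A K] in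
theorem mem_annI {J : Type*} (f : J → A) (z : J → K) (r : A) :
    r ∈ annI f z ↔ ∃ w : K, ∀ j, InAway (f j) (algebraMap A K r * z j - w) := Iff.rfl

theorem annI_frob (p : ℕ) [hp : Fact p.Prime] [CharP A p] (hF : (frobenius A p).Flat)
    {J : Type*} [Finite J] (f : J → A) (z : J → K) :
    annI f (fun j => z j ^ p) ≤ (annI f z).map (frobenius A p) := by
  classical
  have := Fintype.ofFinite J
  have hinj : Function.Injective (algebraMap A K) := IsFractionRing.injective A K
  have : CharP K p := charP_of_injective_algebraMap hinj p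
  rintro r ⟨w, hw⟩
  obtain ⟨N, hN⟩ := InAway.exists_forall hw
  choose v hv using hN (N * p) (Nat.le_mul_of_pos_right _ hp.out.pos)
  -- common denominators
  obtain ⟨s, hs⟩ := IsLocalization.exist_integer_multiples_of_finite (nonZeroDivisors A)
    (fun j : Option J => match j with | none => w | some j => z j)
  have hs0 : (s : A) ≠ 0 := nonZeroDivisors.ne_zero s.2
  obtain ⟨w₁, hw₁⟩ := hs none
  choose x hx using fun j : J => hs (some j)
  simp only [Algebra.smul_def] at hw₁ hx
  have hxp : ∀ j, algebraMap A K (x j) ^ p = algebraMap A K s ^ p * z j ^ p := fun j => by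
    rw [hx j, mul_pow]
  have hwp : algebraMap A K (s ^ (p - 1) * w₁) = algebraMap A K s ^ p * w := by
    rw [map_mul, map_pow, hw₁, ← mul_assoc, ← pow_succ, Nat.sub_add_cancel hp.out.one_le]
  let ι := Option (Option J)
  let c : J → ι → A := fun j i => match i with
    | none => x j * f j ^ N
    | some none => - f j ^ N
    | some (some i) => if i = j then - s else 0
  let X : ι → A := fun i => match i with
    | none => r
    | some none => s ^ (p - 1) * w₁
    | some (some i) => v i
  have hsys : ∀ j, ∑ i, frobenius A p (c j i) * X i = 0 := by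
    intro j
    rw [Fintype.sum_option, Fintype.sum_option]
    simp only [c, X, frobenius_def]
    rw [Finset.sum_eq_single j]
    · rw [if_pos rfl]
      apply hinj
      simp only [map_add, map_mul, map_zero]
      have e1 : (-f j ^ N) ^ p = - (f j ^ N) ^ p := by
        rw [← frobenius_def, map_neg, frobenius_def]
      have e2 : (-(s : A)) ^ p = - (s : A) ^ p := by
        rw [← frobenius_def, map_neg, frobenius_def]
      rw [e1, e2, map_neg, map_neg, mul_pow, map_mul, map_pow, hxp, ← hv j]
      have h3 : algebraMap A K s ^ (p - 1) * algebraMap A K w₁ = algebraMap A K s ^ p * w := by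
        rw [← hwp, map_mul, map_pow]
      simp only [map_pow]
      rw [h3]
      ring
    · intro i _ hij
      rw [if_neg hij, zero_pow hp.out.ne_zero, zero_mul]
    · intro h
      exact absurd (Finset.mem_univ _) h
  obtain ⟨n, a, y, hy, ha⟩ := flat_system (frobenius A p) hF c X hsys
  have hmem : ∀ l, a l none ∈ annI f z := by
    intro l
    refine ⟨algebraMap A K (a l (some none)) / algebraMap A K s, fun j => ?_⟩
    have h1 := ha l j
    rw [Fintype.sum_option, Fintype.sum_option] at h1
    simp only [c] at h1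
    rw [Finset.sum_eq_single j (fun i _ hij => by rw [if_neg hij, zero_mul])
      (fun h => absurd (Finset.mem_univ _) h), if_pos rfl] at h1
    refine ⟨N, a l (some (some j)), ?_⟩
    have hs' : algebraMap A K s ≠ 0 := fun h => hs0 (hinj (by rw [h, map_zero]))
    have h2 := congrArg (algebraMap A K) h1
    simp only [map_add, map_mul, map_neg, map_pow, map_zero] at h2
    rw [hx j] at h2
    field_simp
    linear_combination h2
  have h1 : r = ∑ l, frobenius A p (a l none) * y l := hy none
  rw [h1]
  exact Ideal.sum_mem _ fun l _ => Ideal.mul_mem_right _ _ (Ideal.mem_map_of_mem _ (hmem l))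

/-- **Frobenius-fixed classes vanish.** -/
theorem exists_forall_sub (p : ℕ) [hp : Fact p.Prime] [CharP A p] [IsLocalRing A] [IsNoetherianRing A]
    [IsIntegrallyClosed A]
    (hF : (frobenius A p).Flat) {J : Type*} [Finite J] (f : J → A) (hf : ∀ j, f j ≠ 0) (z : J → K)
    (a : K) (ha : ∀ j, InAway (f j) (a - (z j ^ p - z j))) :
    ∃ w : K, ∀ j, InAway (f j) (z j - w) := by
  classical
  have := Fintype.ofFinite J
  have hinj : Function.Injective (algebraMap A K) := IsFractionRing.injective A K
  have : CharP K p := charP_of_injective_algebraMap hinj p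
  rcases isEmpty_or_nonempty J with hJ | ⟨⟨j₀⟩⟩
  · exact ⟨0, fun j => isEmptyElim j⟩
  -- differences
  have hdiff : ∀ i j, InAway (f i * f j) (z i - z j) := by
    intro i j
    apply InAway.of_pow_sub p hp.out.two_le
    have h1 := ((ha j).mul_right (f i)).sub ((ha i).mul_left (f j))
    convert h1 using 1
    rw [sub_pow_expChar]
    ring
  have hne : annI f z ≠ ⊥ := by
    obtain ⟨N, hN⟩ := InAway.exists_forall (fun j => hdiff j₀ j)
    intro h
    have h1 : f j₀ ^ N ∈ annI f z := by
      refine ⟨algebraMap A K (f j₀ ^ N) * z j₀, fun j => ?_⟩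
      obtain ⟨b, hb⟩ := hN N le_rfl j
      refine ⟨N, -b, ?_⟩
      rw [map_neg, ← hb, map_mul, map_pow]
      ring
    rw [h, Ideal.mem_bot] at h1
    exact pow_ne_zero _ (hf j₀) h1
  have hle : annI f z ≤ annI f (fun j => z j ^ p) := by
    rintro r ⟨w, hw⟩
    refine ⟨w + algebraMap A K r * a, fun j => ?_⟩
    have h1 := (hw j).sub ((InAway.of (K := K) (f j) r).mul (ha j))
    convert h1 using 1
    ring
  have hfix : annI f z ≤ maximalIdeal A • annI f z ∨ annI f z = ⊤ := by
    by_cases htop : annI f z = ⊤
    · exact Or.inr htop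
    · left
      have hm : annI f z ≤ maximalIdeal A := le_maximalIdeal htop
      refine (hle.trans (annI_frob p hF f z)).trans ?_
      rw [Ideal.map_le_iff_le_comap]
      intro r hr
      rw [Ideal.mem_comap, frobenius_def]
      have : r ^ p = r ^ (p - 1) * r := by rw [← pow_succ, Nat.sub_add_cancel hp.out.one_le]
      rw [this]
      refine Submodule.smul_mem_smul ?_ hr
      exact Ideal.pow_mem_of_mem _ (hm hr) _ (by have := hp.out.two_le; omega)
  rcases hfix with h | h
  · exact absurd (Submodule.eq_bot_of_le_smul_of_le_jacobson_bot (maximalIdeal A) (annI f z)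
      (IsNoetherian.noetherian _) h (maximalIdeal_le_jacobson _)) hne
  · have h1 : (1 : A) ∈ annI f z := by rw [h]; trivial
    obtain ⟨w, hw⟩ := h1
    refine ⟨w, fun j => ?_⟩
    have := hw j
    rwa [map_one, one_mul] at this

end FrobFixed

section DepthTwo

variable {A : Type*} [CommRing A] [IsDomain A] [IsLocalRing A] [IsNoetherianRing A] [IsIntegrallyClosed A]
  {K : Type*} [Field K] [Algebra A K] [IsFractionRing A K]

omit [IsDomain A] in
/-- `K` elements regular on the punctured spectrum are regular. -/
theorem mem_of_inAway (hdim : 2 ≤ ringKrullDim A) {J : Type*} (f : J → A)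
    (hf : ∀ P : Ideal A, P.IsPrime → (∀ j, f j ∈ P) → P = maximalIdeal A) (e : K)
    (he : ∀ j, InAway (f j) e) : ∃ a, algebraMap A K a = e := by
  have hinj : Function.Injective (algebraMap A K) := IsFractionRing.injective A K
  let D : Ideal A :=
    { carrier := {r | ∃ a, algebraMap A K a = algebraMap A K r * e}
      zero_mem' := ⟨0, by simp⟩
      add_mem' := by
        rintro r s ⟨a, ha⟩ ⟨b, hb⟩
        exact ⟨a + b, by rw [map_add, map_add, ha, hb]; ring⟩
      smul_mem' := by
        rintro c r ⟨a, ha⟩
        exact ⟨c * a, by rw [smul_eq_mul, map_mul, map_mul, ha]; ring⟩ }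
  have hD : ∀ r, r ∈ D ↔ ∃ a, algebraMap A K a = algebraMap A K r * e := fun r => Iff.rfl
  by_cases htop : D = ⊤
  · obtain ⟨a, ha⟩ := (hD 1).1 (by rw [htop]; trivial)
    exact ⟨a, by rw [ha, map_one, one_mul]⟩
  exfalso
  have hrad : maximalIdeal A ≤ D.radical := by
    rw [Ideal.radical_eq_sInf]
    refine le_sInf ?_
    rintro P ⟨hP, hPp⟩
    refine (hf P hPp fun j => ?_).ge
    obtain ⟨M, b, hb⟩ := he j
    have : f j ^ M ∈ D := (hD _).2 ⟨b, by rw [map_pow, hb]⟩
    exact hPp.mem_of_pow_mem _ (hP this)
  have hex : ∃ n : ℕ, maximalIdeal A ^ n ≤ D := by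
    obtain ⟨n, hn⟩ := D.exists_radical_pow_le_of_fg (IsNoetherian.noetherian _)
    exact ⟨n, (Ideal.pow_right_mono hrad n).trans hn⟩
  classical
  let n := Nat.find hex
  have hn : maximalIdeal A ^ n ≤ D := Nat.find_spec hex
  have hn0 : n ≠ 0 := by
    intro h
    rw [h, pow_zero, Ideal.one_eq_top] at hn
    exact htop (top_le_iff.mp hn)
  obtain ⟨m, hm⟩ := Nat.exists_eq_succ_of_ne_zero hn0
  have hnot : ¬ maximalIdeal A ^ m ≤ D := Nat.find_min hex (by change m < n; omega)
  obtain ⟨r, hr, hrD⟩ := SetLike.not_le_iff_exists.mp hnot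
  have hmr : ∀ y ∈ maximalIdeal A, ∃ a, algebraMap A K a = algebraMap A K y * (algebraMap A K r * e) := by
    intro y hy
    have : y * r ∈ D := hn (by rw [hm, pow_succ']; exact Ideal.mul_mem_mul hy hr)
    obtain ⟨a, ha⟩ := (hD _).1 this
    exact ⟨a, by rw [ha, map_mul]; ring⟩
  set e' := algebraMap A K r * e with he'
  have hno : ¬ ∃ a, algebraMap A K a = e' := fun h => hrD ((hD r).2 h)
  have hm0 : maximalIdeal A ≠ ⊥ := by
    intro h
    have h1 : ringKrullDim A = 0 := by
      rw [← IsLocalRing.maximalIdeal_height_eq_ringKrullDim, h]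
      simp
    rw [h1] at hdim
    exact absurd hdim (by decide)
  by_cases hunit : ∃ x ∈ maximalIdeal A, ∃ u : A, IsUnit u ∧ algebraMap A K u = algebraMap A K x * e'
  · obtain ⟨x, hx, u, hu, hux⟩ := hunit
    -- the maximal ideal is principal
    have hprin : maximalIdeal A = Ideal.span {x} := by
      apply le_antisymm
      · intro y hy
        obtain ⟨a, ha⟩ := hmr y hy
        rw [Ideal.mem_span_singleton]
        obtain ⟨v, hv⟩ := hu.exists_right_inv
        refine ⟨v * a, hinj ?_⟩
        have hx0 : algebraMap A K x ≠ 0 := by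
          intro h
          rw [h, zero_mul] at hux
          exact hu.ne_zero (hinj (by rw [hux, map_zero]))
        have he0 : e' ≠ 0 := by
          intro h
          rw [h, mul_zero] at hux
          exact hu.ne_zero (hinj (by rw [hux, map_zero]))
        have hv' : algebraMap A K u * algebraMap A K v = 1 := by rw [← map_mul, hv, map_one]
        rw [map_mul, map_mul, ha]
        have h2 : algebraMap A K x * e' * algebraMap A K v = 1 := by rw [← hux, hv']
        linear_combination (-algebraMap A K y) * h2
      · rw [Ideal.span_singleton_le_iff_mem]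
        exact hx
    have h1 : (maximalIdeal A).height ≤ 1 := by
      refine (Ideal.height_le_one_of_isPrincipal_of_mem_minimalPrimes (Ideal.span {x}) _ ?_)
      rw [← hprin, Ideal.minimalPrimes_eq_subsingleton_self]
      rfl
    have h2 : ringKrullDim A ≤ 1 := by
      rw [← IsLocalRing.maximalIdeal_height_eq_ringKrullDim]
      exact_mod_cast h1
    exact absurd (hdim.trans h2) (by decide)
  · push Not at hunit
    apply hno
    have hint : IsIntegral A e' := by
      refine isIntegral_of_smul_mem_submodule (M := K)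
        (Submodule.map (Algebra.linearMap A K) (maximalIdeal A)) ?_ ?_ e' ?_
      · intro h
        apply hm0
        rw [eq_bot_iff]
        intro y hy
        have h1 : Algebra.linearMap A K y ∈ Submodule.map (Algebra.linearMap A K) (maximalIdeal A) :=
          ⟨y, hy, rfl⟩
        rw [h, Submodule.mem_bot, Algebra.linearMap_apply] at h1
        rw [Ideal.mem_bot]
        exact hinj (by rw [h1, map_zero])
      · exact Submodule.FG.map _ (IsNoetherian.noetherian _)
      · rintro _ ⟨y, hy, rfl⟩
        obtain ⟨a, ha⟩ := hmr y hy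
        refine ⟨a, ?_, ?_⟩
        · change a ∈ maximalIdeal A
          rw [mem_maximalIdeal]
          intro hu
          exact hunit y hy a hu ha
        · rw [Algebra.linearMap_apply, Algebra.linearMap_apply, ha, smul_eq_mul, mul_comm]
    obtain ⟨a, ha⟩ := IsIntegrallyClosed.isIntegral_iff.mp hint
    exact ⟨a, ha⟩

end DepthTwo

section ArtinSchreier

open Polynomial in
/-- A field of characteristic `p` without Galois extension of degree `p` has surjective `x ↦ x ^ p - x`. -/
theorem exists_pow_sub_eq_of_field (p : ℕ) [hp : Fact p.Prime] (k : Type v) [Field k] [CharP k p]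
    (hkp : ∀ (L : Type v) [Field L] [Algebra k L], IsGalois k L → Module.finrank k L ≠ p) (c : k) :
    ∃ x : k, x ^ p - x = c := by
  classical
  by_contra hno
  push Not at hno
  have hp1 : 1 < p := hp.out.one_lt
  let q : k[X] := X ^ p - (X + C c)
  have hq : q.Monic := monic_X_pow_sub ((degree_X_add_C _).trans_lt (by exact_mod_cast hp1))
  have hdeg : q.degree = p := by
    rw [degree_sub_eq_left_of_degree_lt, degree_X_pow]
    rw [degree_X_pow]
    exact (degree_X_add_C _).trans_lt (by exact_mod_cast hp1)
  have hder : derivative q = -1 := by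
    simp only [q, derivative_sub, derivative_X_pow, derivative_add, derivative_X, derivative_C, add_zero,
      CharP.cast_eq_zero, map_zero, zero_mul, zero_sub]
  have hsep : q.Separable := by
    refine ⟨0, -1, ?_⟩
    rw [hder]
    ring
  let E := q.SplittingField
  have hgal : IsGalois k E := IsGalois.of_separable_splitting_field hsep
  have hcE : CharP E p := charP_of_injective_algebraMap (algebraMap k E).injective p
  have hroot : ∀ β : E, β ∈ q.rootSet E ↔ β ^ p - β = algebraMap k E c := by
    intro β
    rw [mem_rootSet_of_ne hq.ne_zero]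
    simp only [q, map_sub, map_pow, aeval_X, map_add, aeval_C]
    constructor
    · intro h; linear_combination h
    · intro h; linear_combination h
  obtain ⟨α, hα⟩ := (SplittingField.splits q).exists_eval_eq_zero (by
    rw [degree_map, hdeg]; exact_mod_cast hp.out.ne_zero)
  have hα' : α ^ p - α = algebraMap k E c := by
    rw [← hroot, mem_rootSet_of_ne hq.ne_zero, aeval_def, ← eval_map]
    exact hα
  have hFp : ∀ x : E, x ^ p = x → ∃ n : ZMod p, ZMod.castHom (dvd_refl p) E n = x := by
    intro x hx
    obtain ⟨n, hn⟩ := K873.ASAut.exists_eq_mul p (1 : E) x (by rw [one_pow, one_mul, hx]) one_ne_zero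
    exact ⟨n, by rw [hn, mul_one]⟩
  have hcast : ∀ (τ : Gal(E/k)) (n : ZMod p), τ (ZMod.castHom (dvd_refl p) E n) = ZMod.castHom (dvd_refl p) E n := by
    intro τ n
    exact DFunLike.congr_fun (Subsingleton.elim ((τ : E →+* E).comp (ZMod.castHom (dvd_refl p) E))
      (ZMod.castHom (dvd_refl p) E)) n
  have hn : ∀ τ : Gal(E/k), ∃ n : ZMod p, τ α = α + ZMod.castHom (dvd_refl p) E n := by
    intro τ
    obtain ⟨n, hn⟩ := hFp (τ α - α) (by
      rw [sub_pow_expChar, ← map_pow]
      have h1 : α ^ p = α + algebraMap k E c := by linear_combination hα'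
      rw [h1, map_add, AlgEquiv.commutes]
      ring)
    exact ⟨n, by rw [hn]; ring⟩
  choose n hn using hn
  have hcinj : Function.Injective (ZMod.castHom (dvd_refl p) E) := (ZMod.castHom (dvd_refl p) E).injective
  let f : Gal(E/k) →* Multiplicative (ZMod p) :=
    { toFun := fun τ => Multiplicative.ofAdd (n τ)
      map_one' := by
        have h1 := hn 1
        rw [AlgEquiv.one_apply, left_eq_add, map_eq_zero] at h1
        rw [h1]; rfl
      map_mul' := by
        intro τ σ
        have h1 := hn (τ * σ)
        rw [AlgEquiv.mul_apply, hn σ, map_add, hn τ, hcast, add_assoc, ← map_add] at h1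
        rw [← hcinj (add_left_cancel h1), ofAdd_add]  }
  have hf : Function.Injective f := by
    rw [injective_iff_map_eq_one]
    intro τ hτ
    have h1 : n τ = 0 := hτ
    have h2 : τ α = α := by rw [hn, h1, map_zero, add_zero]
    have h3 : (τ : E →ₐ[k] E) = AlgHom.id k E := by
      apply AlgHom.ext_of_adjoin_eq_top (SplittingField.adjoin_rootSet q)
      intro β hβ
      rw [hroot] at hβ
      obtain ⟨m, hm⟩ := hFp (β - α) (by rw [sub_pow_expChar]; linear_combination hβ - hα')
      have h4 : β = α + ZMod.castHom (dvd_refl p) E m := by rw [hm]; ring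
      change τ β = β
      rw [h4, map_add, h2, hcast]
    ext x
    exact DFunLike.congr_fun h3 x
  have hdvd := Subgroup.card_dvd_of_injective f hf
  rw [Nat.card_congr Multiplicative.toAdd, Nat.card_zmod, IsGalois.card_aut_eq_finrank] at hdvd
  rcases (Nat.dvd_prime hp.out).mp hdvd with h | h
  · have h1 : (⊥ : Subalgebra k E) = ⊤ := Subalgebra.bot_eq_top_of_finrank_eq_one h
    obtain ⟨x, hx⟩ := Algebra.mem_bot.mp (by rw [h1]; exact Algebra.mem_top : α ∈ (⊥ : Subalgebra k E))
    apply hno x
    apply (algebraMap k E).injective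
    rw [map_sub, map_pow, hx, hα']
  · exact hkp E hgal h

open Polynomial in
theorem exists_pow_sub_eq (p : ℕ) [hp : Fact p.Prime] (A : Type u) [CommRing A] [IsLocalRing A] [CharP A p]
    [IsAdicComplete (maximalIdeal A) A] (k : Type v) [Field k] [Algebra k A]
    (hk : Function.Surjective (residue A ∘ algebraMap k A))
    (hkp : ∀ (L : Type v) [Field L] [Algebra k L], IsGalois k L → Module.finrank k L ≠ p) (b : A) :
    ∃ x : A, x ^ p - x = b := by
  have : CharP k p := (algebraMap k A).charP (algebraMap k A).injective p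
  obtain ⟨c, hc⟩ := hk (residue A b)
  obtain ⟨c₁, hc₁⟩ := exists_pow_sub_eq_of_field p k hkp c
  have hp1 : 1 < p := hp.out.one_lt
  let P : A[X] := X ^ p - (X + C b)
  have hP : P.Monic := monic_X_pow_sub ((degree_X_add_C _).trans_lt (by exact_mod_cast hp1))
  have hder : derivative P = -1 := by
    simp only [P, derivative_sub, derivative_X_pow, derivative_add, derivative_X, derivative_C, add_zero,
      CharP.cast_eq_zero, map_zero, zero_mul, zero_sub]
  obtain ⟨a, ha, -⟩ := HenselianRing.is_henselian (I := maximalIdeal A) P hP (algebraMap k A c₁) (by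
    rw [← Ideal.Quotient.eq_zero_iff_mem]
    change residue A _ = 0
    simp only [P, eval_sub, eval_pow, eval_X, eval_add, eval_C, map_sub, map_pow, map_add]
    have h1 : residue A (algebraMap k A c) = residue A b := hc
    rw [← h1, ← hc₁, map_sub, map_sub, map_pow, map_pow]
    ring) (by
    rw [hder, eval_neg, eval_one, map_neg, map_one]
    exact isUnit_one.neg)
  refine ⟨a, ?_⟩
  rw [IsRoot.def] at ha
  simp only [P, eval_sub, eval_pow, eval_X, eval_add, eval_C] at ha
  linear_combination ha

end ArtinSchreier

section Average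

variable (p : ℕ) [hp : Fact p.Prime] (A : Type u) [CommRing A] (G : Type w) [Group G] [MulSemiringAction G A]

/-- Dedekind: trivial inertia at `P` gives an element whose trace is not in `P`. -/
theorem exists_trace_notMem [Fintype G] (P : Ideal A) [P.IsPrime] (hP : P.inertia G = ⊥) :
    ∃ x : A, ∑ g : G, g • x ∉ P := by
  classical
  by_contra hno
  push Not at hno
  have hli := linearIndependent_monoidHom A (A ⧸ P)
  let e : G → (A →* A ⧸ P) := fun g =>
    ((Ideal.Quotient.mk P).comp (MulSemiringAction.toRingHom G A g) : A →* A ⧸ P)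
  have he : ∀ g x, e g x = Ideal.Quotient.mk P (g • x) := fun _ _ => rfl
  have hinj : Function.Injective e := by
    intro g h hgh
    have h1 : g * h⁻¹ ∈ P.inertia G := by
      intro x
      have h2 : e g (h⁻¹ • x) = e h (h⁻¹ • x) := by rw [hgh]
      rw [he, he, smul_inv_smul, Ideal.Quotient.mk_eq_mk_iff_sub_mem] at h2
      rwa [mul_smul]
    rw [hP, Subgroup.mem_bot] at h1
    exact mul_inv_eq_one.mp h1
  have h2 := (linearIndependent_iff'.mp (hli.comp e hinj)) Finset.univ (fun _ => 1) (by
    ext x
    simp only [one_smul, Finset.sum_apply, Function.comp_apply, Pi.zero_apply]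
    have := hno x
    rw [← Ideal.Quotient.eq_zero_iff_mem, map_sum] at this
    exact this) 1 (Finset.mem_univ _)
  exact one_ne_zero h2

/-- The Artin-Schreier data on the punctured spectrum. -/
theorem exists_data [IsLocalRing A] [IsNoetherianRing A] [CharP A p] [Finite G] (hcard : Nat.card G = p)
    (hram : ∀ P : Ideal A, P.IsPrime → P ≠ maximalIdeal A → P.inertia G = ⊥) :
    ∃ (χ : G → ZMod p) (_ : Function.Surjective χ) (J : Type u) (_ : Finite J) (S : J → FixedPoints.subring A G)
      (Y : J → A), (∀ j, (S j : A) ≠ 0) ∧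
      (∀ j (g : G), g • Y j = Y j + ZMod.castHom (dvd_refl p) A (χ g) * S j) ∧
      ∀ P : Ideal A, P.IsPrime → (∀ j, (S j : A) ∈ P) → P = maximalIdeal A := by
  classical
  have := Fintype.ofFinite G
  have hcyc : IsCyclic G := isCyclic_of_prime_card hcard
  let E : G ≃* Multiplicative (ZMod p) := mulEquivOfCyclicCardEq (by
    rw [hcard, Nat.card_congr Multiplicative.toAdd, Nat.card_zmod])
  let χ : G → ZMod p := fun g => Multiplicative.toAdd (E g)
  have hχ : ∀ g h, χ (g⁻¹ * h) = χ h - χ g := by
    intro g h
    simp only [χ, map_mul, map_inv, toAdd_mul, toAdd_inv]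
    ring
  let c : ZMod p →+* A := ZMod.castHom (dvd_refl p) A
  have hc : ∀ (g : G) (n : ZMod p), g • c n = c n := fun g n =>
    DFunLike.congr_fun (Subsingleton.elim ((MulSemiringAction.toRingHom G A g).comp c) c) n
  let Tr : A → A := fun x => ∑ g : G, g • x
  have hTr : ∀ x (h : G), h • Tr x = Tr x := by
    intro x h
    simp only [Tr, Finset.smul_sum, smul_smul]
    exact Equiv.sum_comp (Equiv.mulLeft h) (fun g => g • x)
  obtain ⟨s, hs, hspan⟩ := (Submodule.fg_span_iff_fg_span_finset_subset (Set.range Tr)).mp
    (IsNoetherian.noetherian (Submodule.span A _))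
  have hx : ∀ j : {t // t ∈ s ∧ t ≠ 0}, ∃ x, Tr x = j := fun j => hs j.2.1
  choose x hx using hx
  refine ⟨χ, Multiplicative.toAdd.surjective.comp E.surjective, {t // t ∈ s ∧ t ≠ 0}, ?_,
    fun j => ⟨Tr (x j), hTr _⟩, fun j => - ∑ g : G, c (χ g) * (g • x j), ?_, ?_, ?_⟩
  · refine Finite.of_injective (β := s) (fun j => ⟨j.1, j.2.1⟩) fun a b h => Subtype.ext ?_
    exact congrArg (fun t : s => (t : A)) h
  · intro j
    change Tr (x j) ≠ 0
    rw [hx j]; exact j.2.2
  · intro j h
    change h • (- ∑ g : G, c (χ g) * (g • x j)) = - ∑ g : G, c (χ g) * (g • x j) + c (χ h) * Tr (x j)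
    rw [smul_neg, Finset.smul_sum]
    have h1 : ∑ g : G, h • (c (χ g) * (g • x j)) = ∑ g : G, c (χ (h⁻¹ * g)) * (g • x j) := by
      rw [← Equiv.sum_comp (Equiv.mulLeft h) (fun g => c (χ (h⁻¹ * g)) * (g • x j))]
      refine Finset.sum_congr rfl fun g _ => ?_
      rw [smul_mul', hc, Equiv.coe_mulLeft, inv_mul_cancel_left, smul_smul]
    rw [h1]
    simp only [hχ, map_sub, sub_mul, Finset.sum_sub_distrib, ← Finset.mul_sum, Tr]
    ring
  · intro P hP hPj
    by_contra hne
    obtain ⟨y, hy⟩ := exists_trace_notMem A G P (hram P hP hne)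
    apply hy
    have h1 : Tr y ∈ Submodule.span A (Set.range Tr) := Submodule.subset_span ⟨y, rfl⟩
    rw [hspan] at h1
    have h2 : Submodule.span A (s : Set A) ≤ P := by
      rw [Submodule.span_le]
      intro t ht
      by_cases h0 : t = 0
      · rw [h0]; exact P.zero_mem
      · have := hPj ⟨t, ht, h0⟩
        change Tr (x ⟨t, ht, h0⟩) ∈ P at this
        rwa [hx] at this
    exact h2 h1

end Average

section Field

open Polynomial IntermediateField in
/-- Extension of a field homomorphism along an Artin-Schreier extension. -/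
theorem exists_extend (p : ℕ) [hp : Fact p.Prime] {L : Type u} {K : Type v} [Field L] [Field K] [Algebra L K]
    (hfin : Module.finrank L K = p) (φ : L →+* L) (y y' : K) (a : L) (hy : y ^ p - y = algebraMap L K a)
    (hyL : y ∉ Set.range (algebraMap L K)) (hy' : y' ^ p - y' = algebraMap L K (φ a)) :
    ∃ ψ : K →+* K, ∀ x : L, ψ (algebraMap L K x) = algebraMap L K (φ x) := by
  classical
  have hfd : FiniteDimensional L K := Module.finite_of_finrank_pos (by rw [hfin]; exact hp.out.pos)
  have hint : IsIntegral L y := IsIntegral.of_finite L y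
  have hdvd : Module.finrank L L⟮y⟯ ∣ p := by
    rw [← hfin, ← Module.finrank_mul_finrank L L⟮y⟯ K]
    exact Dvd.intro _ rfl
  have hne1 : Module.finrank L L⟮y⟯ ≠ 1 := by
    intro h
    rw [IntermediateField.finrank_eq_one_iff] at h
    apply hyL
    have h1 : y ∈ (⊥ : IntermediateField L K) := by
      rw [← h]; exact mem_adjoin_simple_self L y
    exact IntermediateField.mem_bot.mp h1
  have hp' : Module.finrank L L⟮y⟯ = p := ((Nat.dvd_prime hp.out).mp hdvd).resolve_left hne1
  have htop : L⟮y⟯ = ⊤ := by
    apply IntermediateField.eq_of_le_of_finrank_eq le_top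
    rw [hp', IntermediateField.finrank_top', hfin]
  have hmin : minpoly L y = X ^ p - (X + C a) := by
    symm
    have hp1 : 1 < p := hp.out.one_lt
    have hdeg : (X + C a : L[X]).degree < p := (degree_X_add_C _).trans_lt (by exact_mod_cast hp1)
    apply minpoly.unique_of_degree_le_degree_minpoly
    · exact monic_X_pow_sub hdeg
    · simp only [map_sub, map_pow, aeval_X, map_add, aeval_C]
      linear_combination hy
    · rw [degree_sub_eq_left_of_degree_lt (by rw [degree_X_pow]; exact hdeg), degree_X_pow,
        degree_eq_natDegree (minpoly.ne_zero hint), ← adjoin.finrank hint, hp']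
  let e : AdjoinRoot (minpoly L y) ≃ₐ[L] K :=
    ((adjoinRootEquivAdjoin L hint).trans (IntermediateField.equivOfEq htop)).trans IntermediateField.topEquiv
  let f : AdjoinRoot (minpoly L y) →+* K := AdjoinRoot.lift ((algebraMap L K).comp φ) y' (by
    rw [hmin]
    simp only [eval₂_sub, eval₂_pow, eval₂_X, eval₂_add, eval₂_C, RingHom.comp_apply]
    linear_combination hy')
  refine ⟨f.comp (e.symm : K →+* AdjoinRoot (minpoly L y)), fun x => ?_⟩
  change f (e.symm (algebraMap L K x)) = _
  rw [AlgEquiv.commutes]
  exact AdjoinRoot.lift_of _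

end Field

section Main

variable (p : ℕ) [hp : Fact p.Prime] (A : Type u) [CommRing A] [IsRegularLocalRing A] [CharP A p]
  [IsAdicComplete (maximalIdeal A) A] (k : Type v) [Field k] [Algebra k A]
  (G : Type w) [Group G] [Finite G] [MulSemiringAction G A]

/-- The transported Artin-Schreier equation has a solution in the fraction field of `A`. -/
theorem exists_root [IsDomain A] [IsIntegrallyClosed A] (hdim : 2 ≤ ringKrullDim A)
    (hk : Function.Surjective (residue A ∘ algebraMap k A))
    (hkp : ∀ (L : Type v) [Field L] [Algebra k L], IsGalois k L → Module.finrank k L ≠ p)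
    (hcard : Nat.card G = p)
    (hram : ∀ P : Ideal A, P.IsPrime → P ≠ maximalIdeal A → P.inertia G = ⊥)
    (φ : FixedPoints.subring A G ≃+* FixedPoints.subring A G)
    (K : Type*) [Field K] [Algebra A K] [IsFractionRing A K] :
    ∃ (χ : G → ZMod p) (_ : Function.Surjective χ) (S : FixedPoints.subring A G) (b : FixedPoints.subring A G)
      (Y : A) (y' : K),
      (S : A) ≠ 0 ∧ (∀ g : G, g • Y = Y + ZMod.castHom (dvd_refl p) A (χ g) * S) ∧
      (b : A) = Y ^ p - (S : A) ^ (p - 1) * Y ∧
      y' ^ p - y' = algebraMap A K (φ b : FixedPoints.subring A G) /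
        algebraMap A K (φ S : FixedPoints.subring A G) ^ p := by
  classical
  obtain ⟨χ, hχ, J, hJ, S, Y, hS, hY, hP⟩ := exists_data p A G hcard hram
  let B := FixedPoints.subring A G
  let c : ZMod p →+* A := ZMod.castHom (dvd_refl p) A
  have hcp : ∀ n, c n ^ p = c n := fun n => by rw [← map_pow, ZMod.pow_card]
  have hSg : ∀ j (g : G), g • (S j : A) = S j := fun j g => (S j).2 g
  have hp1 : p - 1 + 1 = p := Nat.sub_add_cancel hp.out.one_le
  -- the coefficients
  let b : J → B := fun j => ⟨Y j ^ p - (S j : A) ^ (p - 1) * Y j, fun g => by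
    rw [smul_sub, smul_mul', smul_pow', smul_pow', hSg, hY, add_pow_expChar, mul_pow, hcp]
    have h1 : (S j : A) ^ p = (S j : A) ^ (p - 1) * S j := by rw [← pow_succ, hp1]
    rw [h1]
    ring⟩
  let d : J → J → B := fun i j => ⟨S j * Y i - S i * Y j, fun g => by
    rw [smul_sub, smul_mul', smul_mul', hSg, hSg, hY, hY]
    ring⟩
  have hid : ∀ i j, S j ^ p * b i - S i ^ p * b j = d i j ^ p - (S i * S j) ^ (p - 1) * d i j := by
    intro i j
    apply Subtype.ext
    have h1 : ∀ j, (S j : A) ^ p = (S j : A) ^ (p - 1) * S j := fun j => by rw [← pow_succ, hp1]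
    change (S j : A) ^ p * (Y i ^ p - (S i : A) ^ (p - 1) * Y i) - (S i : A) ^ p * (Y j ^ p - (S j : A) ^ (p - 1) * Y j) =
      (S j * Y i - S i * Y j) ^ p - (S i * S j : A) ^ (p - 1) * (S j * Y i - S i * Y j)
    rw [sub_pow_expChar, mul_pow, mul_pow, mul_pow]
    simp only [h1]
    ring
  have hne : Nonempty J := by
    by_contra hJ
    have h1 : (⊥ : Ideal A) = maximalIdeal A := hP ⊥ inferInstance fun j => absurd ⟨j⟩ hJ
    have h2 : ringKrullDim A = 0 := by
      rw [← IsLocalRing.maximalIdeal_height_eq_ringKrullDim, ← h1]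
      simp
    rw [h2] at hdim
    exact absurd hdim (by decide)
  obtain ⟨j₀⟩ := hne
  have hinj : Function.Injective (algebraMap A K) := IsFractionRing.injective A K
  have hcK : CharP K p := charP_of_injective_algebraMap hinj p
  let Φ : B →+* K := (algebraMap A K).comp (B.subtype.comp (φ : B →+* B))
  let f : J → A := fun j => (φ (S j) : B)
  have hf0 : ∀ j, f j ≠ 0 := by
    intro j h
    have h1 : φ (S j) = 0 := Subtype.ext h
    rw [EmbeddingLike.map_eq_zero_iff] at h1
    exact hS j (by rw [h1]; rfl)
  have hfΦ : ∀ j, algebraMap A K (f j) = Φ (S j) := fun j => rfl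
  have hfK : ∀ j, Φ (S j) ≠ 0 := fun j h => hf0 j (hinj (by rw [hfΦ, h, map_zero]))
  let z : J → K := fun j => Φ (d j₀ j) / (Φ (S j₀) * Φ (S j))
  let a : K := Φ (b j₀) / Φ (S j₀) ^ p
  have hkey : ∀ j, a - (z j ^ p - z j) = Φ (b j) / Φ (S j) ^ p := by
    intro j
    have h1 := congrArg Φ (hid j₀ j)
    simp only [map_sub, map_mul, map_pow] at h1
    have h2 := hfK j
    have h3 := hfK j₀
    have h4 : (Φ (S j₀) * Φ (S j)) ^ p ≠ 0 := pow_ne_zero _ (mul_ne_zero h3 h2)
    apply mul_left_cancel₀ h4
    have e1 : (Φ (S j₀) * Φ (S j)) ^ p * a = Φ (S j) ^ p * Φ (b j₀) := by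
      simp only [a]
      rw [mul_pow]
      field_simp
    have e2 : (Φ (S j₀) * Φ (S j)) ^ p * z j ^ p = Φ (d j₀ j) ^ p := by
      simp only [z]
      rw [← mul_pow]
      congr 1
      field_simp
    have e3 : (Φ (S j₀) * Φ (S j)) ^ p * z j = (Φ (S j₀) * Φ (S j)) ^ (p - 1) * Φ (d j₀ j) := by
      simp only [z]
      conv_lhs => rw [← hp1, pow_succ]
      field_simp
    have e4 : (Φ (S j₀) * Φ (S j)) ^ p * (Φ (b j) / Φ (S j) ^ p) = Φ (S j₀) ^ p * Φ (b j) := by
      rw [mul_pow]
      field_simp
    rw [mul_sub, mul_sub, e1, e2, e3, e4]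
    linear_combination h1
  have ha : ∀ j, InAway (f j) (a - (z j ^ p - z j)) := by
    intro j
    refine ⟨p, (φ (b j) : B), ?_⟩
    rw [hkey, hfΦ, mul_div_cancel₀]
    · rfl
    exact pow_ne_zero _ (hfK j)
  obtain ⟨w, hw⟩ := exists_forall_sub p (Groth.Agent.Localalg.Kunz.frobenius_flat_of_isRegularLocalRing p A) f hf0 z a ha
  have hint := K873.Inv.isIntegral A G
  have hmem : ∀ P : Ideal A, P.IsPrime → (∀ j, f j ∈ P) → P = maximalIdeal A := by
    intro P hPp hPf
    let Q : Ideal B := P.comap (algebraMap B A)
    let Q' : Ideal B := Q.comap (φ : B →+* B)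
    have hSQ : ∀ j, S j ∈ Q' := fun j => hPf j
    obtain ⟨P', -, hP', hPQ⟩ := Ideal.exists_ideal_over_prime_of_isIntegral Q' (⊥ : Ideal A) (by
      intro x hx
      rw [Ideal.mem_comap, Ideal.mem_bot] at hx
      have : x = 0 := Subtype.ext hx
      rw [this]; exact Q'.zero_mem)
    have h1 : P' = maximalIdeal A := hP P' hP' fun j => by
      have : S j ∈ P'.comap (algebraMap B A) := by rw [hPQ]; exact hSQ j
      exact this
    have h2 : Q'.IsMaximal := by
      rw [← hPQ, h1]
      exact Ideal.isMaximal_comap_of_isIntegral_of_isMaximal _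
    have h3 : Q.IsMaximal := by
      have h4 : Q = Q'.comap (φ.symm : B →+* B) := by
        ext x
        change x ∈ Q ↔ φ (φ.symm x) ∈ Q
        rw [φ.apply_symm_apply]
      rw [h4]
      exact Ideal.comap_isMaximal_of_surjective _ φ.symm.surjective
    exact eq_maximalIdeal (Ideal.isMaximal_of_isIntegral_of_isMaximal_comap P h3)
  obtain ⟨e, he⟩ := mem_of_inAway hdim f hmem (a - (w ^ p - w)) (by
    intro j
    have h1 := (ha j).add (((hw j).pow p).sub (hw j))
    convert h1 using 1
    rw [sub_pow_expChar]
    ring)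
  obtain ⟨t, ht⟩ := exists_pow_sub_eq p A k hk hkp e
  refine ⟨χ, hχ, S j₀, b j₀, Y j₀, w + algebraMap A K t, hS j₀, hY j₀, rfl, ?_⟩
  change _ = a
  rw [add_pow_expChar, ← map_pow]
  have h5 : t ^ p = t + e := by linear_combination ht
  rw [h5, map_add, he]
  ring

/-- Automorphisms of the ring of invariants extend (as ring homomorphisms). -/
theorem exists_hom (hdim : 2 ≤ ringKrullDim A)
    (hk : Function.Surjective (residue A ∘ algebraMap k A))
    (hkp : ∀ (L : Type v) [Field L] [Algebra k L], IsGalois k L → Module.finrank k L ≠ p)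
    (hcard : Nat.card G = p)
    (hram : ∀ P : Ideal A, P.IsPrime → P ≠ maximalIdeal A → P.inertia G = ⊥)
    (φ : FixedPoints.subring A G ≃+* FixedPoints.subring A G) :
    ∃ ψ : A →+* A, ∀ x : FixedPoints.subring A G, ψ x = φ x := by
  classical
  have hdom : IsDomain A := Groth.Agent.CalgA.RegBasic.isDomain A
  have hic : IsIntegrallyClosed A := Groth.Agent.CurvesC.RegNormal.isIntegrallyClosed A
  obtain ⟨χ, hχ, S, b, Y, y', hS, hY, hb, hy'⟩ := exists_root p A k G hdim hk hkp hcard hram φ (FractionRing A)
  have hinj : Function.Injective (algebraMap A (FractionRing A)) := IsFractionRing.injective A (FractionRing A)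
  have hBdom : IsDomain (FixedPoints.subring A G) := inferInstance
  have hBinj : Function.Injective (algebraMap (FixedPoints.subring A G) A) := Subtype.val_injective
  have : FaithfulSMul (FixedPoints.subring A G) A := (faithfulSMul_iff_algebraMap_injective _ A).mpr hBinj
  have : FaithfulSMul (FixedPoints.subring A G) (FractionRing A) :=
    (faithfulSMul_iff_algebraMap_injective _ (FractionRing A)).mpr (by
      rw [IsScalarTower.algebraMap_eq (FixedPoints.subring A G) A (FractionRing A)]; exact hinj.comp hBinj)
  let _ : Algebra (FractionRing (FixedPoints.subring A G)) (FractionRing A) := FractionRing.liftAlgebra _ _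
  have : IsScalarTower (FixedPoints.subring A G) (FractionRing (FixedPoints.subring A G)) (FractionRing A) :=
    FractionRing.isScalarTower_liftAlgebra _ _
  have hbot : (⊥ : Ideal A) ≠ maximalIdeal A := by
    intro h1
    have h2 : ringKrullDim A = 0 := by
      rw [← IsLocalRing.maximalIdeal_height_eq_ringKrullDim, ← h1]
      simp
    rw [h2] at hdim
    exact absurd hdim (by decide)
  have : IsGaloisGroup G (FixedPoints.subring A G) A :=
    { faithful := ⟨fun {g h} hgh => by
        have h1 : g * h⁻¹ ∈ (⊥ : Ideal A).inertia G := by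
          intro x
          rw [mul_smul, hgh, smul_inv_smul, sub_self]
          exact zero_mem _
        rw [hram ⊥ inferInstance hbot, Subgroup.mem_bot] at h1
        exact mul_inv_eq_one.mp h1⟩
      commutes := K873.Inv.smulCommClass A G
      isInvariant := K873.Inv.isInvariant A G }
  let _ : MulSemiringAction G (FractionRing A) := IsFractionRing.mulSemiringAction G A (FractionRing A)
  have hGal : IsGaloisGroup G (FractionRing (FixedPoints.subring A G)) (FractionRing A) :=
    IsGaloisGroup.toFractionRing G (FixedPoints.subring A G) A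
  have hfin : Module.finrank (FractionRing (FixedPoints.subring A G)) (FractionRing A) = p := by
    rw [← IsGaloisGroup.card_eq_finrank G, hcard]
  have hSK : algebraMap A (FractionRing A) S ≠ 0 := fun h => hS (hinj (by rw [h, map_zero]))
  let φL : FractionRing (FixedPoints.subring A G) →+* FractionRing (FixedPoints.subring A G) :=
    IsFractionRing.map (j := (φ : FixedPoints.subring A G →+* FixedPoints.subring A G)) φ.injective
  have hφL : ∀ x : FixedPoints.subring A G, φL (algebraMap _ _ x) = algebraMap _ _ (φ x) :=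
    fun x => IsLocalization.map_eq _ _
  have htow : ∀ x : FixedPoints.subring A G,
      algebraMap (FractionRing (FixedPoints.subring A G)) (FractionRing A) (algebraMap _ _ x) =
        algebraMap A (FractionRing A) x := fun x => by
    rw [← IsScalarTower.algebraMap_apply, IsScalarTower.algebraMap_apply (FixedPoints.subring A G) A]
    rfl
  have hp1 : p - 1 + 1 = p := Nat.sub_add_cancel hp.out.one_le
  obtain ⟨ψ, hψ⟩ := exists_extend p hfin φL (algebraMap A (FractionRing A) Y / algebraMap A (FractionRing A) S) y'
    (algebraMap _ _ b / algebraMap _ _ S ^ p) (by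
      rw [map_div₀, map_pow, htow, htow, hb, map_sub, map_mul, map_pow, map_pow, div_pow, sub_div]
      congr 1
      conv_rhs => rw [← hp1, pow_succ]
      rw [hp1, mul_div_mul_left _ _ (pow_ne_zero _ hSK)]) (by
      rintro ⟨x, hx⟩
      obtain ⟨g, hg⟩ := hχ 1
      have h1 : g • (algebraMap A (FractionRing A) Y / algebraMap A (FractionRing A) S) =
          algebraMap A (FractionRing A) Y / algebraMap A (FractionRing A) S := by
        rw [← hx]
        have := hGal.commutes
        exact smul_algebraMap g x
      rw [smul_div₀', ← algebraMap.smul', ← algebraMap.smul', hY, hg, map_one, one_mul, map_add,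
        show g • (S : A) = S from S.2 g, add_div, div_self hSK] at h1
      exact one_ne_zero (left_eq_add.mp h1.symm)) (by
      rw [hy', map_div₀, map_pow, hφL, hφL, map_div₀, map_pow, htow, htow])
  have hint := K873.Inv.isIntegral A G
  have hmem : ∀ a : A, ψ (algebraMap A (FractionRing A) a) ∈ (algebraMap A (FractionRing A)).range := by
    intro a
    obtain ⟨P, hPm, hPa⟩ := hint.isIntegral a
    have h1 : IsIntegral A (ψ (algebraMap A (FractionRing A) a)) := by
      refine ⟨P.map ((algebraMap (FixedPoints.subring A G) A).comp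
        (φ : FixedPoints.subring A G →+* FixedPoints.subring A G)), hPm.map _, ?_⟩
      rw [Polynomial.eval₂_map]
      have h2 : (algebraMap A (FractionRing A)).comp ((algebraMap (FixedPoints.subring A G) A).comp
          (φ : FixedPoints.subring A G →+* FixedPoints.subring A G)) =
          (ψ.comp (algebraMap A (FractionRing A))).comp (algebraMap (FixedPoints.subring A G) A) := by
        ext x
        have h3 := hψ (algebraMap _ _ x)
        rw [hφL, htow, htow] at h3
        exact h3.symm
      rw [h2, ← RingHom.comp_apply ψ (algebraMap A (FractionRing A)), ← Polynomial.hom_eval₂, hPa, map_zero]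
    obtain ⟨c, hc⟩ := IsIntegrallyClosed.isIntegral_iff.mp h1
    exact ⟨c, hc⟩
  let e : A ≃+* (algebraMap A (FractionRing A)).range :=
    RingEquiv.ofBijective (algebraMap A (FractionRing A)).rangeRestrict
      ⟨fun a b h => hinj (congrArg Subtype.val h),
        (algebraMap A (FractionRing A)).rangeRestrict_surjective⟩
  refine ⟨(e.symm : _ →+* A).comp ((ψ.comp (algebraMap A (FractionRing A))).codRestrict _ hmem), fun x => ?_⟩
  change e.symm _ = _
  rw [RingEquiv.symm_apply_eq]
  apply Subtype.ext
  change ψ (algebraMap A (FractionRing A) x) = algebraMap A (FractionRing A) (φ x : FixedPoints.subring A G)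
  have h3 := hψ (algebraMap _ _ x)
  rw [hφL, htow, htow] at h3
  exact h3

/-- Automorphisms of the ring of invariants extend. -/
theorem exists_ringEquiv (hdim : 2 ≤ ringKrullDim A)
    (hk : Function.Surjective (residue A ∘ algebraMap k A))
    (hkp : ∀ (L : Type v) [Field L] [Algebra k L], IsGalois k L → Module.finrank k L ≠ p)
    (hcard : Nat.card G = p)
    (hram : ∀ P : Ideal A, P.IsPrime → P ≠ maximalIdeal A → P.inertia G = ⊥)
    (φ : FixedPoints.subring A G ≃+* FixedPoints.subring A G) :
    ∃ ψ : A ≃+* A, ∀ x : FixedPoints.subring A G, ψ x = φ x := by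
  classical
  have hdom : IsDomain A := Groth.Agent.CalgA.RegBasic.isDomain A
  obtain ⟨ψ, hψ⟩ := exists_hom p A k G hdim hk hkp hcard hram φ
  obtain ⟨ψ', hψ'⟩ := exists_hom p A k G hdim hk hkp hcard hram φ.symm
  have hint := K873.Inv.isIntegral A G
  have hbij : ∀ θ : A →+* A, (∀ x : FixedPoints.subring A G, θ x = x) → Function.Bijective θ := by
    intro θ hθ
    have hinj : Function.Injective θ := by
      rw [RingHom.injective_iff_ker_eq_bot]
      apply Ideal.eq_bot_of_comap_eq_bot (R := FixedPoints.subring A G)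
      rw [eq_bot_iff]
      intro x hx
      have h1 : θ x = 0 := hx
      rw [hθ] at h1
      exact Subtype.ext h1
    refine ⟨hinj, fun b => ?_⟩
    obtain ⟨P, hP, hPb⟩ := hint.isIntegral b
    let Q := P.map (algebraMap (FixedPoints.subring A G) A)
    have hQ0 : Q ≠ 0 := (hP.map _).ne_zero
    have hmaps : Set.MapsTo θ (Q.roots.toFinset : Set A) (Q.roots.toFinset : Set A) := by
      intro x hx
      rw [Finset.mem_coe, Multiset.mem_toFinset, Polynomial.mem_roots hQ0, Polynomial.IsRoot.def,
        Polynomial.eval_map] at hx ⊢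
      have h2 : algebraMap (FixedPoints.subring A G) A = θ.comp (algebraMap (FixedPoints.subring A G) A) := by
        ext y
        exact (hθ y).symm
      rw [h2, ← Polynomial.hom_eval₂, hx, map_zero]
    have hsurj := (Finset.surjOn_of_injOn_of_card_le θ hmaps (hinj.injOn) le_rfl)
    have hbQ : b ∈ (Q.roots.toFinset : Set A) := by
      rw [Finset.mem_coe, Multiset.mem_toFinset, Polynomial.mem_roots hQ0, Polynomial.IsRoot.def,
        Polynomial.eval_map]
      exact hPb
    obtain ⟨a, -, ha⟩ := hsurj hbQ
    exact ⟨a, ha⟩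
  have h1 := hbij (ψ'.comp ψ) fun x => by rw [RingHom.comp_apply, hψ, hψ', φ.symm_apply_apply]
  have h2 := hbij (ψ.comp ψ') fun x => by rw [RingHom.comp_apply, hψ', hψ, φ.apply_symm_apply]
  refine ⟨RingEquiv.ofBijective ψ ⟨fun a b h => h1.1 (by rw [RingHom.comp_apply, RingHom.comp_apply, h]),
    fun a => ?_⟩, fun x => hψ x⟩
  obtain ⟨b, hb⟩ := h2.2 a
  exact ⟨ψ' b, hb⟩

end Main

end K100.ExtAut
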